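import Cfsg.Agent.Lib.Helper5.SRO.Quasi
import Cfsg.Agent.Lib.Lead.Quasisimple
import Cfsg.Agent.S5017
import Mathlib

/-!
# Special rank one groups of characteristic different from two and three are perfect (helper5)
-/

set_option autoImplicit false

namespace Cfsg.Agent.Lib.Helper5.SRO

open Cfsg Cfsg.Agent.H2.SRO

section

variable {X : Type*} [Group X] {A B : Subgroup X}

/-- the structure theorem in characteristic different from two and three -/
theorem quasi_big_char (h : Hyp A B) (hr : IsRankOneGroup X A B)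
    (hsq : ∀ a ∈ A, a ≠ 1 → a * a ≠ 1) (hcube : ∀ a ∈ A, ∃ c ∈ A, c * c * c = a)
    (hcard : 3 < ENat.card ↥A) :
    commutator X ⊔ A = ⊤ ∧ IsQuasisimple ↥(commutator X) ∧
      3 < ENat.card ↥(⁅A, rankOneDiagonal A B⁆ : Subgroup X) := by
  have hle : A ≤ ⁅A, rankOneDiagonal A B⁆ := by
    intro a ha
    rw [Subgroup.commutator_comm]
    exact mem_comm_of_big h hsq hcube ha
  have hperf : commutator X = ⊤ := perfect_of_le h hr.1 (hle.trans (comm_diag_le_commutator A B))
  refine ⟨by rw [hperf, top_sup_eq], ?_, lt_of_lt_of_le hcard (card_le_of_le hle)⟩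
  have hq : IsQuasisimple X := (Cfsg.Agent.S5017.result hr).2 ⟨hperf⟩
  exact Cfsg.Agent.Lib.Lead.Quasisimple.of_mulEquiv
    (Subgroup.topEquiv.symm.trans (MulEquiv.subgroupCongr hperf.symm)) hq

end

end Cfsg.Agent.Lib.Helper5.SRO
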