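import Cfsg.Agent.Lib.Helper5.SRO.HuaMod
import Cfsg.Agent.H2.RankOne
import Mathlib

/-!
# Special rank one groups: the diagonal subgroup and the commutator subgroup (helper5)
-/

set_option autoImplicit false

namespace Cfsg.Agent.Lib.Helper5.SRO

open Cfsg Cfsg.Agent.H2.SRO

section

variable {X : Type*} [Group X] {A B : Subgroup X}

theorem mem_normalizer_of_cj {S : Subgroup X} {g : X} (hg : cj S g = S) :
    g ∈ Subgroup.normalizer (S : Set X) := by
  rw [Subgroup.mem_normalizer_iff]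
  intro x
  rw [← mem_cj, hg]

/-- the Hua elements lie in the diagonal subgroup -/
theorem hua_mem_diag (h : Hyp A B) {u βu z βz : X} (hu : Rel A B u βu) (hz : Rel A B z βz) :
    nn u βu * (nn z βz)⁻¹ ∈ rankOneDiagonal A B := by
  refine ⟨⟨?_, ?_⟩, ?_⟩
  · exact Subgroup.mul_mem _ (nn_mem_sup hu.1 hu.2.2.1)
      (Subgroup.inv_mem _ (nn_mem_sup hz.1 hz.2.2.1))
  · exact mem_normalizer_of_cj (hua_cj_left h hz hu)
  · exact mem_normalizer_of_cj (hua_cj_right h hz hu)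

/-- the hypothesis of `hua_mod` for `C = ⁅A, H⁆` -/
theorem hC_diag (h : Hyp A B) : ∀ u βu z βz v, Rel A B u βu → Rel A B z βz → v ∈ A →
    (nn u βu * (nn z βz)⁻¹) * v * (nn u βu * (nn z βz)⁻¹)⁻¹ * v⁻¹ ∈ ⁅A, rankOneDiagonal A B⁆ := by
  intro u βu z βz v hu hz hv
  rw [Subgroup.commutator_comm, ← commutatorElement_def]
  exact Subgroup.commutator_mem_commutator (hua_mem_diag h hu hz) hv

/-- `⁅A, H⁆ ≤ A` -/
theorem comm_diag_le (A B : Subgroup X) : ⁅A, rankOneDiagonal A B⁆ ≤ A := by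
  rw [Subgroup.commutator_le]
  intro a ha g hg
  have hgn : g ∈ Subgroup.normalizer (A : Set X) := hg.1.2
  rw [commutatorElement_def]
  have : a * g * a⁻¹ * g⁻¹ = a * (g * a⁻¹ * g⁻¹) := by group
  rw [this]
  exact A.mul_mem ha ((Subgroup.mem_normalizer_iff.1 hgn a⁻¹).1 (A.inv_mem ha))

theorem comm_diag_le_commutator (A B : Subgroup X) :
    ⁅A, rankOneDiagonal A B⁆ ≤ commutator X := by
  rw [commutator_def]
  exact Subgroup.commutator_mono le_top le_top

/-- if `A ≤ X'` then `X` is perfect -/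
theorem perfect_of_le (h : Hyp A B) (hX : A ⊔ B = ⊤) (hA : A ≤ commutator X) :
    commutator X = ⊤ := by
  rw [eq_top_iff, ← hX]
  apply sup_le hA
  intro β hβ
  obtain ⟨a, ha, ha1⟩ := Cfsg.Agent.H2.RankOne.exists_nonidentity_left h.pair
  obtain ⟨b, hab⟩ := exists_right h ha ha1
  have hm : β ∈ cj A (nn a b)⁻¹ := by
    rw [cj_left_nn_inv h hab]
    exact hβ
  rw [mem_cj] at hm
  have hn : (commutator X).Normal := inferInstance
  have := hn.conj_mem _ (hA hm) (nn a b)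
  have e : nn a b * ((nn a b)⁻¹ * β * (nn a b)⁻¹⁻¹) * (nn a b)⁻¹ = β := by group
  rw [e] at this
  exact this

/-- in characteristic different from two and three every element of `A` is a commutator `⁅h, c⁆` -/
theorem mem_comm_of_big (h : Hyp A B) (hsq : ∀ a ∈ A, a ≠ 1 → a * a ≠ 1)
    (hcube : ∀ a ∈ A, ∃ c ∈ A, c * c * c = a) {a : X} (ha : a ∈ A) :
    a ∈ ⁅rankOneDiagonal A B, A⁆ := by
  by_cases ha1 : a = 1
  · rw [ha1]
    exact Subgroup.one_mem _
  obtain ⟨c, hc, hca⟩ := hcube a ha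
  have hc1 : c ≠ 1 := by
    rintro rfl
    apply ha1
    rw [← hca, one_mul, one_mul]
  have hcc1 : c * c ≠ 1 := hsq c hc hc1
  obtain ⟨βc, h1⟩ := exists_right h hc hc1
  obtain ⟨β₂, h2⟩ := exists_right h (A.mul_mem hc hc) hcc1
  have h2' : Rel B A β₂ (c ^ 2) := by
    rw [pow_two]
    exact h2.swap
  have key : β₂ ^ 2 = βc := main 2 h.swap βc c β₂ h1.swap h2'
  have e1 : (nn c βc)⁻¹ * c * nn c βc = βc⁻¹ := by
    have := nn_conj_right h h1
    calc (nn c βc)⁻¹ * c * nn c βc = (nn c βc)⁻¹ * (c⁻¹)⁻¹ * nn c βc := by rw [inv_inv]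
      _ = (nn c βc)⁻¹ * (nn c βc * βc * (nn c βc)⁻¹)⁻¹ * nn c βc := by rw [this]
      _ = βc⁻¹ := by group
  have e2 : nn (c * c) β₂ * βc⁻¹ * (nn (c * c) β₂)⁻¹ = (c * c) * (c * c) := by
    have := nn_conj_right h h2
    rw [← key, pow_two]
    calc nn (c * c) β₂ * (β₂ * β₂)⁻¹ * (nn (c * c) β₂)⁻¹
        = (nn (c * c) β₂ * β₂ * (nn (c * c) β₂)⁻¹)⁻¹ * (nn (c * c) β₂ * β₂ * (nn (c * c) β₂)⁻¹)⁻¹ := by
          group
      _ = (c * c) * (c * c) := by rw [this, inv_inv]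
  have e3 : nn (c * c) β₂ * (nn c βc)⁻¹ * c * (nn (c * c) β₂ * (nn c βc)⁻¹)⁻¹ * c⁻¹ = a := by
    calc nn (c * c) β₂ * (nn c βc)⁻¹ * c * (nn (c * c) β₂ * (nn c βc)⁻¹)⁻¹ * c⁻¹
        = nn (c * c) β₂ * ((nn c βc)⁻¹ * c * nn c βc) * (nn (c * c) β₂)⁻¹ * c⁻¹ := by group
      _ = (c * c) * (c * c) * c⁻¹ := by rw [e1, e2]
      _ = c * c * c := by group
      _ = a := hca
  rw [← e3, ← commutatorElement_def]
  exact Subgroup.commutator_mem_commutator (hua_mem_diag h h2 h1) hc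

/-- a normal subgroup `L` with `L A = X` contains the commutator subgroup (`A` abelian) -/
theorem commutator_le_of_sup (h : Hyp A B) (L : Subgroup X) [hL : L.Normal] (hLA : L ⊔ A = ⊤) :
    commutator X ≤ L := by
  rw [commutator_def, Subgroup.commutator_le]
  intro x _ y _
  have hx : x ∈ ((L ⊔ A : Subgroup X) : Set X) := by rw [hLA]; trivial
  have hy : y ∈ ((L ⊔ A : Subgroup X) : Set X) := by rw [hLA]; trivial
  rw [Subgroup.normal_mul] at hx hy
  obtain ⟨l, hl, a, ha, rfl⟩ := hx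
  obtain ⟨l', hl', a', ha', rfl⟩ := hy
  -- work in the quotient
  rw [← QuotientGroup.eq_one_iff]
  have q1 : ((l * a : X) : X ⧸ L) = (a : X ⧸ L) := by
    rw [QuotientGroup.mk_mul, (QuotientGroup.eq_one_iff l).2 hl, one_mul]
  have q2 : ((l' * a' : X) : X ⧸ L) = (a' : X ⧸ L) := by
    rw [QuotientGroup.mk_mul, (QuotientGroup.eq_one_iff l').2 hl', one_mul]
  have hc := h.commA a ha a' ha'
  rw [commutatorElement_def, QuotientGroup.mk_mul, QuotientGroup.mk_mul, QuotientGroup.mk_mul,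
    QuotientGroup.mk_inv, QuotientGroup.mk_inv, q1, q2, ← QuotientGroup.mk_mul, hc,
    QuotientGroup.mk_mul]
  group

end

end Cfsg.Agent.Lib.Helper5.SRO
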