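import Cfsg.Agent.Lib.Helper5.SRO.Opg
import Mathlib

/-!
# Special rank one groups: the elements `n(a)`, the point action and the Hua elements (helper5)
-/

set_option autoImplicit false

namespace Cfsg.Agent.Lib.Helper5.SRO

open Cfsg Cfsg.Agent.H2.SRO

section

variable {X : Type*} [Group X] {A B : Subgroup X}

/-- `n(a) = a b⁻¹ a` -/
def nn (a b : X) : X := a * b⁻¹ * a

theorem nn_conj_left (h : Hyp A B) {a b : X} (hab : Rel A B a b) :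
    nn a b * a * (nn a b)⁻¹ = b⁻¹ := n_conj_left h hab

theorem nn_conj_right (h : Hyp A B) {a b : X} (hab : Rel A B a b) :
    nn a b * b * (nn a b)⁻¹ = a⁻¹ := n_conj_right h hab

/-- `n A n⁻¹ = B` -/
theorem cj_left_nn_inv (h : Hyp A B) {a b : X} (hab : Rel A B a b) : cj A (nn a b)⁻¹ = B := by
  have e : (nn a b)⁻¹ = a⁻¹ * b * a⁻¹ := by unfold nn; group
  rw [e, ← cj_cj, ← cj_cj, cj_mem (A.inv_mem hab.1), hab.2.2.2.2, cj_cj, mul_inv_cancel, cj_one]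

/-- `n B n⁻¹ = A` -/
theorem cj_right_nn_inv (h : Hyp A B) {a b : X} (hab : Rel A B a b) : cj B (nn a b)⁻¹ = A := by
  have e : (nn a b)⁻¹ = b * a⁻¹ * b := by
    unfold nn
    rw [n_alt h hab]
    group
  have r := (rel_inv h hab).2.2.2.2
  rw [e, ← cj_cj, ← cj_cj, cj_mem hab.2.2.1, ← r, cj_cj, inv_mul_cancel, cj_one]

/-- `n⁻¹ A n = B` -/
theorem cj_left_nn (h : Hyp A B) {a b : X} (hab : Rel A B a b) : cj A (nn a b) = B := by
  have := cj_right_nn_inv h hab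
  rw [← this, cj_cj, inv_mul_cancel, cj_one]

/-- `n⁻¹ B n = A` -/
theorem cj_right_nn (h : Hyp A B) {a b : X} (hab : Rel A B a b) : cj B (nn a b) = A := by
  have := cj_left_nn_inv h hab
  rw [← this, cj_cj, inv_mul_cancel, cj_one]

theorem nn_mem_sup {a b : X} (ha : a ∈ A) (hb : b ∈ B) : nn a b ∈ A ⊔ B :=
  Subgroup.mul_mem _ (Subgroup.mul_mem _ (Subgroup.mem_sup_left ha)
    (Subgroup.mem_sup_right (B.inv_mem hb))) (Subgroup.mem_sup_left ha)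

/-- conjugation by an element normalising `A` and `B` preserves the relation -/
theorem rel_conj (g : X) (hgA : cj A g = A) (hgB : cj B g = B) {v β : X} (hr : Rel A B v β) :
    Rel A B (g⁻¹ * v * g) (g⁻¹ * β * g) := by
  have hgA' : cj A g⁻¹ = A := by
    have : cj (cj A g) g⁻¹ = cj A g⁻¹ := by rw [hgA]
    rw [cj_cj, mul_inv_cancel, cj_one] at this
    exact this.symm
  have hgB' : cj B g⁻¹ = B := by
    have : cj (cj B g) g⁻¹ = cj B g⁻¹ := by rw [hgB]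
    rw [cj_cj, mul_inv_cancel, cj_one] at this
    exact this.symm
  refine ⟨?_, ?_, ?_, ?_, ?_⟩
  · rw [← hgA, mem_cj]
    have : g * (g⁻¹ * v * g) * g⁻¹ = v := by group
    rw [this]
    exact hr.1
  · intro e
    apply hr.2.1
    calc v = g * (g⁻¹ * v * g) * g⁻¹ := by group
      _ = 1 := by rw [e]; group
  · rw [← hgB, mem_cj]
    have : g * (g⁻¹ * β * g) * g⁻¹ = β := by group
    rw [this]
    exact hr.2.2.1
  · intro e
    apply hr.2.2.2.1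
    calc β = g * (g⁻¹ * β * g) * g⁻¹ := by group
      _ = 1 := by rw [e]; group
  · rw [← cj_cj, ← cj_cj, hgA', hr.2.2.2.2, ← cj_cj B, ← cj_cj B, hgB']

theorem pt_injective (h : Hyp A B) {z z' : X} (hz : z ∈ A) (hz' : z' ∈ A)
    (e : cj B z⁻¹ = cj B z'⁻¹) : z = z' := by
  have e2 : cj B (z'⁻¹ * z) = B := by
    have : cj (cj B z'⁻¹) z = cj (cj B z⁻¹) z := by rw [e]
    rw [cj_cj, cj_cj, inv_mul_cancel, cj_one] at this
    exact this
  have := norm_trivial h.swap (A.mul_mem (A.inv_mem hz') hz) e2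
  exact (inv_mul_eq_one.1 this).symm

theorem pt_ne_left (h : Hyp A B) {z : X} (hz : z ∈ A) : cj B z⁻¹ ≠ A := by
  intro e
  apply h.pair.ne
  have : cj (cj B z⁻¹) z = cj A z := by rw [e]
  rw [cj_cj, inv_mul_cancel, cj_one, cj_mem hz] at this
  exact this.symm

/-- `β A β⁻¹ = v B v⁻¹` when `β = b(v)` -/
theorem rel_pt (h : Hyp A B) {v β : X} (hr : Rel A B v β) : cj A β⁻¹ = cj B v⁻¹ :=
  (rel_inv h hr).2.2.2.2

/-- conversely -/
theorem rel_of_pt (h : Hyp A B) {v β : X} (hv : v ∈ A) (hβ : β ∈ B) (e : cj A β⁻¹ = cj B v⁻¹) :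
    Rel A B v β := by
  have hβ1 : β ≠ 1 := by
    rintro rfl
    rw [inv_one, cj_one] at e
    exact pt_ne_left h hv e.symm
  have hv1 : v ≠ 1 := by
    rintro rfl
    have e' : cj A β⁻¹ = B := by
      rw [e, inv_one, cj_one]
    apply h.pair.ne
    have : cj (cj A β⁻¹) β = cj B β := by rw [e']
    rw [cj_cj, inv_mul_cancel, cj_one, cj_mem hβ] at this
    exact this
  have hβ1' : β⁻¹ ≠ 1 := by simpa using hβ1
  have hv1' : v⁻¹ ≠ 1 := by simpa using hv1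
  have r : Rel A B v⁻¹ β⁻¹ := ⟨A.inv_mem hv, hv1', B.inv_mem hβ, hβ1', e⟩
  have := rel_inv h r
  rwa [inv_inv, inv_inv] at this

/-- the action of `n` on a point: `(n z) B (n z)⁻¹ = v B v⁻¹` where `b(v) = n z n⁻¹` -/
theorem nn_pt (h : Hyp A B) {a b : X} (hab : Rel A B a b) {z v : X}
    (hr : Rel A B v (nn a b * z * (nn a b)⁻¹)) : cj B (nn a b * z)⁻¹ = cj B v⁻¹ := by
  rw [← rel_pt h hr]
  have e : (nn a b * z)⁻¹ = (nn a b)⁻¹ * (nn a b * z * (nn a b)⁻¹)⁻¹ := by group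
  rw [e, ← cj_cj, cj_right_nn_inv h hab]

/-- `n u⁻¹ n = u n u` -/
theorem nn_identity (h : Hyp A B) {a b : X} (hab : Rel A B a b) :
    nn a b * a⁻¹ * nn a b = a * nn a b * a := by
  have e := n_alt h hab
  unfold nn
  calc a * b⁻¹ * a * a⁻¹ * (a * b⁻¹ * a) = a * b⁻¹ * (a * b⁻¹ * a) := by group
    _ = a * b⁻¹ * (b⁻¹ * a * b⁻¹) := by rw [e]
    _ = a * (b⁻¹ * (b⁻¹ * a * b⁻¹)) := by group
    _ = a * (b⁻¹ * (a * b⁻¹ * a)) := by rw [e]
    _ = a * (b⁻¹ * a * b⁻¹) * a := by group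
    _ = a * (a * b⁻¹ * a) * a := by rw [e]

/-- the identity `ν(u⁻¹ ν(w)) = u ν(u w)` -/
theorem hua_E1 (h : Hyp A B) {u βu : X} (hu : Rel A B u βu) {w v₁ v₂ : X} (hw : w ∈ A)
    (h1 : Rel A B v₁ (nn u βu * w * (nn u βu)⁻¹))
    (h2 : Rel A B v₂ (nn u βu * (u * w) * (nn u βu)⁻¹)) :
    Rel A B (u * v₂) (nn u βu * (u⁻¹ * v₁) * (nn u βu)⁻¹) := by
  have p1 := nn_pt h hu h1
  have p2 := nn_pt h hu h2
  -- the two computations of `(n u⁻¹ n w) B (n u⁻¹ n w)⁻¹`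
  have e1 : cj B (nn u βu * (u⁻¹ * v₁))⁻¹ = cj B (u * v₂)⁻¹ := by
    have k : (nn u βu * w)⁻¹ * (nn u βu * u⁻¹)⁻¹ = (nn u βu * (u * w))⁻¹ * u⁻¹ := by
      have := nn_identity h hu
      calc (nn u βu * w)⁻¹ * (nn u βu * u⁻¹)⁻¹ = (nn u βu * u⁻¹ * nn u βu * w)⁻¹ := by group
        _ = (u * nn u βu * u * w)⁻¹ := by rw [this]
        _ = _ := by group
    rw [show (nn u βu * (u⁻¹ * v₁))⁻¹ = v₁⁻¹ * (nn u βu * u⁻¹)⁻¹ by group, ← cj_cj, ← p1, cj_cj, k,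
      ← cj_cj, p2, cj_cj, show v₂⁻¹ * u⁻¹ = (u * v₂)⁻¹ by group]
  have hv2 : u * v₂ ∈ A := A.mul_mem hu.1 h2.1
  have hm : nn u βu * (u⁻¹ * v₁) * (nn u βu)⁻¹ ∈ B := by
    rw [← cj_left_nn_inv h hu, mem_cj]
    have : (nn u βu)⁻¹ * (nn u βu * (u⁻¹ * v₁) * (nn u βu)⁻¹) * (nn u βu)⁻¹⁻¹ = u⁻¹ * v₁ := by group
    rw [this]
    exact A.mul_mem (A.inv_mem hu.1) h1.1
  apply rel_of_pt h hv2 hm
  rw [← e1]
  have e : (nn u βu * (u⁻¹ * v₁))⁻¹ = (nn u βu)⁻¹ * (nn u βu * (u⁻¹ * v₁) * (nn u βu)⁻¹)⁻¹ := by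
    group
  rw [e, ← cj_cj, cj_right_nn_inv h hu]

end

end Cfsg.Agent.Lib.Helper5.SRO
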