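import Cfsg.Agent.Lib.Helper5.SRO.Hua
import Mathlib

/-!
# Special rank one groups: Hua elements acting trivially modulo a subgroup (helper5)
-/

set_option autoImplicit false

namespace Cfsg.Agent.Lib.Helper5.SRO

open Cfsg Cfsg.Agent.H2.SRO

theorem encard_pair_le' {α : Type*} (x y : α) : Set.encard ({x, y} : Set α) ≤ 2 := by
  refine (Set.encard_insert_le _ _).trans ?_
  rw [Set.encard_singleton, one_add_one_eq_two]

theorem cg_identity {G : Type*} [CommGroup G] (u w v1 v2 : G) :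
    u * w * w = (v2 * (u * w)) * (v1 * w) * (v2 * v1)⁻¹ := by
  rw [eq_mul_inv_iff_mul_eq]
  ac_rfl

section

variable {X : Type*} [Group X] {A B : Subgroup X}

/-- the identity of `cg_identity` for commuting elements of `A` -/
theorem ab_identity (h : Hyp A B) {u w v1 v2 : X} (hu : u ∈ A) (hw : w ∈ A) (hv1 : v1 ∈ A)
    (hv2 : v2 ∈ A) : u * w * w = (v2 * (u * w)) * (v1 * w) * (v2 * v1)⁻¹ := by
  let _ : CommGroup ↥A :=
    { (inferInstance : Group ↥A) with
      mul_comm := fun x y => Subtype.ext (h.commA x x.2 y y.2) }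
  have := cg_identity (⟨u, hu⟩ : ↥A) ⟨w, hw⟩ ⟨v1, hv1⟩ ⟨v2, hv2⟩
  exact congrArg Subtype.val this

/-- the Hua element `n(u) n(z)⁻¹` normalises `A` and `B` -/
theorem hua_cj_left (h : Hyp A B) {u βu z βz : X} (hu : Rel A B u βu) (hz : Rel A B z βz) :
    cj A (nn z βz * (nn u βu)⁻¹) = A := by
  rw [← cj_cj, cj_left_nn h hz, cj_right_nn_inv h hu]

theorem hua_cj_right (h : Hyp A B) {u βu z βz : X} (hu : Rel A B u βu) (hz : Rel A B z βz) :
    cj B (nn z βz * (nn u βu)⁻¹) = B := by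
  rw [← cj_cj, cj_right_nn h hz, cj_left_nn_inv h hu]

/-- `ν_u(z) ≡ z⁻¹` modulo `C` -/
theorem nu_mod (h : Hyp A B) (C : Subgroup X)
    (hC : ∀ u βu z βz v, Rel A B u βu → Rel A B z βz → v ∈ A →
      (nn u βu * (nn z βz)⁻¹) * v * (nn u βu * (nn z βz)⁻¹)⁻¹ * v⁻¹ ∈ C)
    {u βu : X} (hu : Rel A B u βu) {z v : X} (hz : z ∈ A) (hz1 : z ≠ 1)
    (hv : Rel A B v (nn u βu * z * (nn u βu)⁻¹)) : v * z ∈ C := by
  obtain ⟨βz, hzr⟩ := exists_right h hz hz1
  have hzi := rel_inv h hzr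
  have r := rel_conj (nn z βz * (nn u βu)⁻¹) (hua_cj_left h hu hzr) (hua_cj_right h hu hzr) hzi
  have e : (nn z βz * (nn u βu)⁻¹)⁻¹ * βz⁻¹ * (nn z βz * (nn u βu)⁻¹)
      = nn u βu * z * (nn u βu)⁻¹ := by
    rw [← nn_conj_left h hzr]
    group
  rw [e] at r
  have hv' := rel_unique_left h hv r
  have := hC u βu z βz z⁻¹ hu hzr (A.inv_mem hz)
  rw [inv_inv] at this
  rw [hv']
  have e2 : (nn z βz * (nn u βu)⁻¹)⁻¹ * z⁻¹ * (nn z βz * (nn u βu)⁻¹) * z
      = nn u βu * (nn z βz)⁻¹ * z⁻¹ * (nn u βu * (nn z βz)⁻¹)⁻¹ * z := by group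
  rw [e2]
  exact this

/-- if the Hua elements act on `A` trivially modulo `C`, then `u w² ∈ C` -/
theorem hua_mod (h : Hyp A B) (C : Subgroup X)
    (hC : ∀ u βu z βz v, Rel A B u βu → Rel A B z βz → v ∈ A →
      (nn u βu * (nn z βz)⁻¹) * v * (nn u βu * (nn z βz)⁻¹)⁻¹ * v⁻¹ ∈ C)
    {u w : X} (hu : u ∈ A) (hu1 : u ≠ 1) (hw : w ∈ A) (hw1 : w ≠ 1) (huw : u * w ≠ 1) :
    u * w * w ∈ C := by
  obtain ⟨βu, hur⟩ := exists_right h hu hu1
  have conjB : ∀ z ∈ A, z ≠ 1 → nn u βu * z * (nn u βu)⁻¹ ∈ B ∧ nn u βu * z * (nn u βu)⁻¹ ≠ 1 := by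
    intro z hz hz1
    constructor
    · rw [← cj_left_nn_inv h hur, mem_cj]
      have : (nn u βu)⁻¹ * (nn u βu * z * (nn u βu)⁻¹) * (nn u βu)⁻¹⁻¹ = z := by group
      rw [this]
      exact hz
    · intro e
      apply hz1
      calc z = (nn u βu)⁻¹ * (nn u βu * z * (nn u βu)⁻¹) * nn u βu := by group
        _ = 1 := by rw [e]; group
  obtain ⟨v₁, h1⟩ := exists_left h (conjB w hw hw1).1 (conjB w hw hw1).2
  obtain ⟨v₂, h2⟩ := exists_left h (conjB (u * w) (A.mul_mem hu hw) huw).1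
    (conjB (u * w) (A.mul_mem hu hw) huw).2
  have h3 := hua_E1 h hur hw h1 h2
  have hz3 : u⁻¹ * v₁ ∈ A := A.mul_mem (A.inv_mem hu) h1.1
  have hz31 : u⁻¹ * v₁ ≠ 1 := by
    intro e
    apply h3.2.2.2.1
    rw [e, mul_one, mul_inv_cancel]
  have c1 := nu_mod h C hC hur hw hw1 h1
  have c2 := nu_mod h C hC hur (A.mul_mem hu hw) huw h2
  have c3 := nu_mod h C hC hur hz3 hz31 h3
  have e3 : u * v₂ * (u⁻¹ * v₁) = v₂ * v₁ := by
    have := h.commA u hu v₂ h2.1
    calc u * v₂ * (u⁻¹ * v₁) = (u * v₂) * u⁻¹ * v₁ := by group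
      _ = (v₂ * u) * u⁻¹ * v₁ := by rw [this]
      _ = v₂ * v₁ := by group
  rw [e3] at c3
  rw [ab_identity h hu hw h1.1 h2.1]
  exact C.mul_mem (C.mul_mem c2 c1) (C.inv_mem c3)

/-- the elements `u w²` cover `A` when `A` has exponent two and at least three elements -/
theorem cover_two (hA2 : ∀ x ∈ A, x * x = 1) (hcard : 3 < ENat.card ↥A) {v : X} (hv : v ∈ A)
    (hv1 : v ≠ 1) : ∃ u w : X, u ∈ A ∧ u ≠ 1 ∧ w ∈ A ∧ w ≠ 1 ∧ u * w ≠ 1 ∧ u * w * w = v := by
  have : ∃ w ∈ A, w ≠ 1 ∧ w ≠ v := by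
    by_contra hcon
    push Not at hcon
    have hsub : (A : Set X) ⊆ {1, v} := by
      intro w hw
      by_cases hw1 : w = 1
      · left; exact hw1
      · right; exact hcon w hw hw1
    have h1 : ENat.card ↥A ≤ 2 := by
      have : Set.encard (A : Set X) ≤ Set.encard ({1, v} : Set X) := Set.encard_le_encard hsub
      exact this.trans (encard_pair_le' _ _)
    have : (3 : ℕ∞) < 2 := lt_of_lt_of_le hcard h1
    exact absurd this (by decide)
  obtain ⟨w, hw, hw1, hwv⟩ := this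
  refine ⟨v, w, hv, hv1, hw, hw1, ?_, ?_⟩
  · intro e
    apply hwv
    have hvv := hA2 v hv
    have : w = v⁻¹ := eq_inv_of_mul_eq_one_right e
    rw [this]
    exact (eq_inv_of_mul_eq_one_left hvv).symm
  · rw [mul_assoc, hA2 w hw, mul_one]

/-- the elements `u w²` cover `A` when `A` has exponent three and more than three elements -/
theorem cover_three (h : Hyp A B) (hA3 : ∀ x ∈ A, x * x * x = 1) (hcard : 3 < ENat.card ↥A) {v : X}
    (hv : v ∈ A) (hv1 : v ≠ 1) :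
    ∃ u w : X, u ∈ A ∧ u ≠ 1 ∧ w ∈ A ∧ w ≠ 1 ∧ u * w ≠ 1 ∧ u * w * w = v := by
  have : ∃ w ∈ A, w ≠ 1 ∧ w ≠ v ∧ w ≠ v⁻¹ := by
    by_contra hcon
    push Not at hcon
    have hsub : (A : Set X) ⊆ {1, v, v⁻¹} := by
      intro w hw
      by_cases hw1 : w = 1
      · left; exact hw1
      · by_cases hw2 : w = v
        · right; left; exact hw2
        · right; right; exact hcon w hw hw1 hw2
    have h1 : ENat.card ↥A ≤ 3 := by
      have h2 : Set.encard (A : Set X) ≤ Set.encard ({1, v, v⁻¹} : Set X) :=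
        Set.encard_le_encard hsub
      refine h2.trans ((Set.encard_insert_le _ _).trans ?_)
      have := encard_pair_le' v v⁻¹
      calc Set.encard ({v, v⁻¹} : Set X) + 1 ≤ 2 + 1 := by gcongr
        _ = 3 := by norm_num
    exact absurd (lt_of_lt_of_le hcard h1) (lt_irrefl _)
  obtain ⟨w, hw, hw1, hwv, hwv'⟩ := this
  have hvw := h.commA v hv w hw
  refine ⟨v * w, w, A.mul_mem hv hw, ?_, hw, hw1, ?_, ?_⟩
  · intro e
    apply hwv'
    exact eq_inv_of_mul_eq_one_right e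
  · intro e
    -- `v w w = 1`, so `w = v` as `w³ = 1`
    apply hwv
    have h3 := hA3 w hw
    have : v = w := by
      calc v = v * (w * w * w) := by rw [h3, mul_one]
        _ = (v * w * w) * w := by group
        _ = w := by rw [e, one_mul]
    exact this.symm
  · have h3 := hA3 w hw
    calc v * w * w * w = v * (w * w * w) := by group
      _ = v := by rw [h3, mul_one]

end

end Cfsg.Agent.Lib.Helper5.SRO
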