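import Cfsg.Agent.Lib.Helper5.SRO.Main
import Mathlib

/-!
# Special rank one groups: `⟨a, b(a)⟩ ≅ (P)SL₂(p)`, the isomorphism (helper5)
-/

set_option autoImplicit false

namespace Cfsg.Agent.Lib.Helper5.SRO

open Cfsg Cfsg.Agent.H2.SRO Cfsg.Agent.Lib.Helper5.St Cfsg.Agent.Lib.Helper5.SL2P Matrix

section

variable {K : Type*} [Field K]

/-- decomposition of an element of `SL₂(K)` -/
theorem sl_decomp (g : SpecialLinearGroup (Fin 2) K) :
    (∃ a b : K, a ≠ 0 ∧ g = (slPair K).h a * sx K b) ∨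
      (∃ s c r : K, c ≠ 0 ∧ g = sx K s * sy K c * sx K r) := by
  have hdet : (g : Matrix (Fin 2) (Fin 2) K) 0 0 * (g : Matrix (Fin 2) (Fin 2) K) 1 1
      - (g : Matrix (Fin 2) (Fin 2) K) 0 1 * (g : Matrix (Fin 2) (Fin 2) K) 1 0 = 1 := by
    rw [← det_fin_two]; exact g.2
  generalize ha' : (g : Matrix (Fin 2) (Fin 2) K) 0 0 = a at hdet
  generalize hb' : (g : Matrix (Fin 2) (Fin 2) K) 0 1 = b at hdet
  generalize hc' : (g : Matrix (Fin 2) (Fin 2) K) 1 0 = c at hdet
  generalize hd' : (g : Matrix (Fin 2) (Fin 2) K) 1 1 = d at hdet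
  by_cases hc : c = 0
  · left
    have ha : a ≠ 0 := by
      intro h
      rw [h, hc] at hdet
      simp at hdet
    refine ⟨a, b / a, ha, ?_⟩
    apply sl_ext
    all_goals
      rw [Matrix.SpecialLinearGroup.coe_mul, slPair_h_val _ ha, sx_val]
      simp [Matrix.mul_apply, Fin.sum_univ_two]
    · exact ha'
    · rw [hb']; field_simp
    · rw [hc', hc]
    · have had : a * d = 1 := by
        rw [hc, mul_zero, sub_zero] at hdet
        exact hdet
      rw [hd']
      field_simp
      linear_combination had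
  · right
    refine ⟨(a - 1) / c, c, (d - 1) / c, hc, ?_⟩
    apply sl_ext
    all_goals
      rw [Matrix.SpecialLinearGroup.coe_mul, Matrix.SpecialLinearGroup.coe_mul, sx_val, sx_val, sy_val]
      simp [Matrix.mul_apply, Fin.sum_univ_two]
    · rw [ha']; field_simp; ring
    · rw [hb']; field_simp; linear_combination -hdet
    · rw [hc']
    · rw [hd']; field_simp; ring

end

section

variable {X : Type*} [Group X] {p : ℕ} [Fact p.Prime] {A B : Subgroup X}

theorem pr_x (h : Hyp A B) (hpA : ∀ x ∈ A, x ^ p = 1) {a b : X} (hab : Rel A B a b) (t : ZMod p) :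
    (((pr h hpA hab).x t : ↥(YY a b)) : X) = opg a t := rfl

theorem pr_y (h : Hyp A B) (hpA : ∀ x ∈ A, x ^ p = 1) {a b : X} (hab : Rel A B a b) (t : ZMod p) :
    (((pr h hpA hab).y t : ↥(YY a b)) : X) = opg b t := rfl

theorem pr_h (h : Hyp A B) (hpA : ∀ x ∈ A, x ^ p = 1) {a b : X} (hab : Rel A B a b) (t : ZMod p) :
    (pr h hpA hab).h t = (r1 h hpA hab).h t := rfl

/-- the kernel of a homomorphism `SL₂(p) → ⟨a, b⟩` compatible with the pair is central -/
theorem ker_le_center (h : Hyp A B) (hpA : ∀ x ∈ A, x ^ p = 1) {a b : X} (hab : Rel A B a b)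
    (φ : SpecialLinearGroup (Fin 2) (ZMod p) →* ↥(YY a b))
    (hφx : ∀ t, φ (sx (ZMod p) t) = (pr h hpA hab).x t)
    (hφy : ∀ t, φ (sy (ZMod p) t) = (pr h hpA hab).y t) :
    φ.ker ≤ Subgroup.center (SpecialLinearGroup (Fin 2) (ZMod p)) := by
  have ha := hpA a hab.1
  have hb := exp_right h hpA b hab.2.2.1
  have hφh : ∀ s, φ ((slPair (ZMod p)).h s) = (pr h hpA hab).h s := by
    intro s
    simp only [Pair.h, Pair.w, map_mul, slPair_x, slPair_y, hφx, hφy]
  intro g hg
  rw [MonoidHom.mem_ker] at hg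
  rcases sl_decomp g with ⟨d, e, hd, rfl⟩ | ⟨s, c, r, hc, rfl⟩
  · rw [map_mul, hφh, hφx, pr_h] at hg
    -- `h d = x (-e)`
    have e1 : (r1 h hpA hab).h d = (r1 h hpA hab).x (-e) := by
      rw [← (r1 h hpA hab).x_inv]
      exact eq_inv_of_mul_eq_one_left hg
    have hd2 : (d ^ 2)⁻¹ ≠ 0 := inv_ne_zero (pow_ne_zero 2 hd)
    -- the action on `y 1`
    have c1 := (r1 h hpA hab).h_conj_y d hd 1
    rw [e1] at c1
    have c1' := congrArg (fun g : ↥(YY a b) => (g : X)) c1
    simp only [Subgroup.coe_mul, Subgroup.coe_inv, r1_x, r1_y, opg_one, mul_one] at c1'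
    have he : e = 0 := by
      by_contra he0
      have hε1 : opg b (d ^ 2)⁻¹ ≠ 1 := opg_ne_one b hb hab.2.2.2.1 _ hd2
      have hεB : opg b (d ^ 2)⁻¹ ∈ B := opg_mem b B hab.2.2.1 _
      have m1 : opg b (d ^ 2)⁻¹ ∈ cj B (1 : X) := by
        rw [mem_cj, one_mul, inv_one, mul_one]
        exact hεB
      have m2 : opg b (d ^ 2)⁻¹ ∈ cj B (opg a e) := by
        rw [mem_cj, ← c1', opg_neg a ha]
        have : opg a e * ((opg a e)⁻¹ * b * (opg a e)⁻¹⁻¹) * (opg a e)⁻¹ = b := by group
        rw [this]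
        exact hab.2.2.1
      have := ti h A.one_mem (opg_mem a A hab.1 e) m1 m2 hε1
      exact opg_ne_one a ha hab.2.1 e he0 this.symm
    rw [he, neg_zero, (r1 h hpA hab).x_zero] at e1
    -- the action on `x 1`
    have c2 := (r1 h hpA hab).h_conj_x d hd 1
    rw [e1, one_mul, inv_one, mul_one, mul_one] at c2
    have c2' := congrArg (fun g : ↥(YY a b) => (g : X)) c2
    simp only [r1_x] at c2'
    have hdd : d ^ 2 = 1 := (opg_injective a ha hab.2.1 _ _ c2').symm
    rw [Matrix.SpecialLinearGroup.mem_center_iff]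
    refine ⟨d, by rw [Fintype.card_fin]; exact hdd, ?_⟩
    rw [he, Matrix.SpecialLinearGroup.coe_mul, slPair_h_val _ hd, sx_val]
    have hdi : d⁻¹ = d := inv_eq_of_mul_eq_one_right (by rw [← pow_two]; exact hdd)
    ext i j
    fin_cases i <;> fin_cases j <;> simp [Matrix.mul_apply, Fin.sum_univ_two, hdi]
  · exfalso
    rw [map_mul, map_mul, hφx, hφy, hφx] at hg
    have hg' := congrArg (fun g : ↥(YY a b) => (g : X)) hg
    simp only [Subgroup.coe_mul, pr_x, pr_y, Subgroup.coe_one] at hg'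
    have e1 : opg b c = (opg a s)⁻¹ * (opg a r)⁻¹ := by
      calc opg b c = (opg a s)⁻¹ * (opg a s * opg b c * opg a r) * (opg a r)⁻¹ := by group
        _ = _ := by rw [hg', mul_one]
    have hA : opg b c ∈ A := by
      rw [e1]
      exact A.mul_mem (A.inv_mem (opg_mem a A hab.1 s)) (A.inv_mem (opg_mem a A hab.1 r))
    have := inter_trivial h hA (opg_mem b B hab.2.2.1 c)
    exact opg_ne_one b hb hab.2.2.2.1 c hc this

/-- `⟨a, b(a)⟩ ≅ (P)SL₂(p)` -/
theorem iso_main (h : Hyp A B) (hpA : ∀ x ∈ A, x ^ p = 1) {a b : X} (hab : Rel A B a b) :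
    Nonempty (↥(YY a b) ≃* SpecialLinearGroup (Fin 2) (ZMod p)) ∨
      Nonempty (↥(YY a b) ≃* ProjectiveSpecialLinearGroup (Fin 2) (ZMod p)) := by
  obtain ⟨φ, hrange, hφx, hφy⟩ := (pr h hpA hab).exists_hom
  have hsurj : Function.Surjective φ := by
    rw [← MonoidHom.range_eq_top, hrange, eq_top_iff,
      ← Subgroup.closure_closure_coe_preimage (k := ({a, b} : Set X))]
    apply Subgroup.closure_mono
    rintro x (hx | hx)
    · left
      refine ⟨1, Subtype.ext ?_⟩
      rw [pr_x, opg_one]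
      exact hx.symm
    · right
      refine ⟨1, Subtype.ext ?_⟩
      rw [pr_y, opg_one]
      exact hx.symm
  have hker := ker_le_center h hpA hab φ hφx hφy
  by_cases hk : φ.ker = ⊥
  · left
    exact ⟨(MulEquiv.ofBijective φ ⟨(MonoidHom.ker_eq_bot_iff φ).1 hk, hsurj⟩).symm⟩
  · right
    have hcen : φ.ker = Subgroup.center (SpecialLinearGroup (Fin 2) (ZMod p)) := by
      apply le_antisymm hker
      obtain ⟨g, hg1⟩ := (Subgroup.ne_bot_iff_exists_ne_one).1 hk
      have hgc := hker g.2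
      rw [Matrix.SpecialLinearGroup.mem_center_iff] at hgc
      obtain ⟨r, hr, hrg⟩ := hgc
      rw [Fintype.card_fin] at hr
      have hr1 : r ≠ 1 := by
        rintro rfl
        apply hg1
        apply Subtype.ext
        apply Subtype.ext
        rw [← hrg]
        simp
      have hrm : r = -1 := by
        have : (r - 1) * (r + 1) = 0 := by linear_combination hr
        rcases mul_eq_zero.1 this with h0 | h0
        · exact absurd (sub_eq_zero.1 h0) hr1
        · exact eq_neg_of_add_eq_zero_left h0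
      intro z hz
      rw [Matrix.SpecialLinearGroup.mem_center_iff] at hz
      obtain ⟨r', hr', hrz⟩ := hz
      rw [Fintype.card_fin] at hr'
      have : (r' - 1) * (r' + 1) = 0 := by linear_combination hr'
      rcases mul_eq_zero.1 this with h0 | h0
      · have : z = 1 := by
          apply Subtype.ext
          rw [← hrz, sub_eq_zero.1 h0]
          simp
        rw [this]
        exact Subgroup.one_mem _
      · have : z = (g : SpecialLinearGroup (Fin 2) (ZMod p)) := by
          apply Subtype.ext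
          rw [← hrz, ← hrg, hrm, eq_neg_of_add_eq_zero_left h0]
        rw [this]
        exact g.2
    exact ⟨(QuotientGroup.quotientKerEquivOfSurjective φ hsurj).symm.trans
      (QuotientGroup.quotientMulEquivOfEq hcen)⟩

end

end Cfsg.Agent.Lib.Helper5.SRO
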