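import Cfsg.Agent.Lib.Helper5.SRO.Opg
import Cfsg.Agent.Lib.Helper5.St.RankOneFin
import Cfsg.Agent.Lib.Helper5.SL2P.Pres
import Mathlib

/-!
# Special rank one groups: `⟨a, b(a)⟩ ≅ (P)SL₂(p)` (helper5)
-/

set_option autoImplicit false

namespace Cfsg.Agent.Lib.Helper5.SRO

open Cfsg Cfsg.Agent.H2.SRO Cfsg.Agent.Lib.Helper5.St Cfsg.Agent.Lib.Helper5.SL2P

section

variable {X : Type*} [Group X] {p : ℕ} [Fact p.Prime] {A B : Subgroup X}

/-- the relation `w(t) x(u) w(t)⁻¹ = y(-u/t²)` -/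
theorem wx_rel (h : Hyp A B) (hpA : ∀ x ∈ A, x ^ p = 1) {a b : X} (hab : Rel A B a b)
    (t : ZMod p) (ht : t ≠ 0) (u : ZMod p) :
    (opg a t * opg b (-t⁻¹) * opg a t) * opg a u * (opg a t * opg b (-t⁻¹) * opg a t)⁻¹
      = opg b (-(t ^ 2)⁻¹ * u) := by
  have ha := hpA a hab.1
  have hb := exp_right h hpA b hab.2.2.1
  have hr := rel_opg h hpA hab t ht
  rw [opg_neg b hb, opg_eq_pow a ha t u ht, ← conj_pow, n_conj_left h hr, ← opg_neg b hb,
    opg_pow b hb, ZMod.natCast_zmod_val]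
  congr 1
  field_simp

/-- the relation `w(t) y(u) w(t)⁻¹ = x(-t² u)` -/
theorem wy_rel (h : Hyp A B) (hpA : ∀ x ∈ A, x ^ p = 1) {a b : X} (hab : Rel A B a b)
    (t : ZMod p) (ht : t ≠ 0) (u : ZMod p) :
    (opg a t * opg b (-t⁻¹) * opg a t) * opg b u * (opg a t * opg b (-t⁻¹) * opg a t)⁻¹
      = opg a (-(t ^ 2) * u) := by
  have ha := hpA a hab.1
  have hb := exp_right h hpA b hab.2.2.1
  have hr := rel_opg h hpA hab t ht
  rw [opg_neg b hb, opg_eq_pow b hb t⁻¹ u (inv_ne_zero ht), ← conj_pow, n_conj_right h hr,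
    ← opg_neg a ha, opg_pow a ha, ZMod.natCast_zmod_val]
  congr 1
  field_simp

/-- the subgroup generated by `a` and `b` -/
abbrev YY (a b : X) : Subgroup X := Subgroup.closure ({a, b} : Set X)

theorem a_mem (a b : X) : a ∈ YY a b := Subgroup.subset_closure (Set.mem_insert _ _)

theorem b_mem (a b : X) : b ∈ YY a b :=
  Subgroup.subset_closure (Set.mem_insert_of_mem _ (Set.mem_singleton _))

/-- the rank one data in `⟨a, b⟩` -/
def r1 (h : Hyp A B) (hpA : ∀ x ∈ A, x ^ p = 1) {a b : X} (hab : Rel A B a b) :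
    R1Data (ZMod p) ↥(YY a b) where
  x t := ⟨opg a t, opg_mem a _ (a_mem a b) t⟩
  y t := ⟨opg b t, opg_mem b _ (b_mem a b) t⟩
  x_add t u := Subtype.ext (opg_add a (hpA a hab.1) t u)
  y_add t u := Subtype.ext (opg_add b (exp_right h hpA b hab.2.2.1) t u)
  wx t ht u := Subtype.ext (wx_rel h hpA hab t ht u)
  wy t ht u := Subtype.ext (wy_rel h hpA hab t ht u)

theorem r1_x (h : Hyp A B) (hpA : ∀ x ∈ A, x ^ p = 1) {a b : X} (hab : Rel A B a b) (t : ZMod p) :
    (((r1 h hpA hab).x t : ↥(YY a b)) : X) = opg a t := rfl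

theorem r1_y (h : Hyp A B) (hpA : ∀ x ∈ A, x ^ p = 1) {a b : X} (hab : Rel A B a b) (t : ZMod p) :
    (((r1 h hpA hab).y t : ↥(YY a b)) : X) = opg b t := rfl

/-- an element of `⟨a, b⟩` commuting with `a` and `b` is central -/
theorem central_of_comm (a b : X) (c : ↥(YY a b)) (hca : (c : X) * a = a * c)
    (hcb : (c : X) * b = b * c) : c ∈ Subgroup.center ↥(YY a b) := by
  rw [Subgroup.mem_center_iff]
  intro g
  have hg : g ∈ Subgroup.closure (Subtype.val ⁻¹' ({a, b} : Set X) : Set ↥(YY a b)) := by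
    rw [Subgroup.closure_closure_coe_preimage]
    exact Subgroup.mem_top g
  induction hg using Subgroup.closure_induction with
  | mem x hx =>
    apply Subtype.ext
    rw [Subgroup.coe_mul, Subgroup.coe_mul]
    rcases hx with hx | hx
    · have : (x : X) = a := hx
      rw [this, hca]
    · have : (x : X) = b := hx
      rw [this, hcb]
  | one => rw [one_mul, mul_one]
  | mul x y _ _ hx hy => rw [mul_assoc, hy, ← mul_assoc, hx, mul_assoc]
  | inv x _ hx =>
    calc x⁻¹ * c = x⁻¹ * (c * x) * x⁻¹ := by group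
      _ = x⁻¹ * (x * c) * x⁻¹ := by rw [hx]
      _ = c * x⁻¹ := by group

theorem comm_of_conj_eq {G : Type*} [Group G] (P Q g : G) (hg : P * g * P⁻¹ = Q * g * Q⁻¹) :
    (P * Q⁻¹) * (Q * g * Q⁻¹) = (Q * g * Q⁻¹) * (P * Q⁻¹) := by
  calc (P * Q⁻¹) * (Q * g * Q⁻¹) = (P * g * P⁻¹) * (P * Q⁻¹) := by group
    _ = _ := by rw [hg]

/-- the symbols are central in `⟨a, b⟩` -/
theorem r1_hcen (h : Hyp A B) (hpA : ∀ x ∈ A, x ^ p = 1) {a b : X} (hab : Rel A B a b)
    (t u : ZMod p) (ht : t ≠ 0) (hu : u ≠ 0) :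
    (r1 h hpA hab).h t * (r1 h hpA hab).h u * ((r1 h hpA hab).h (t * u))⁻¹
      ∈ Subgroup.center ↥(YY a b) := by
  have htu : t * u ≠ 0 := mul_ne_zero ht hu
  have htu2 : (t * u) ^ 2 ≠ 0 := pow_ne_zero 2 htu
  have kx := comm_of_conj_eq ((r1 h hpA hab).h t * (r1 h hpA hab).h u) ((r1 h hpA hab).h (t * u))
    ((r1 h hpA hab).x ((t * u) ^ 2)⁻¹) (by
      have : (r1 h hpA hab).h t * (r1 h hpA hab).h u * (r1 h hpA hab).x ((t * u) ^ 2)⁻¹ *
          ((r1 h hpA hab).h t * (r1 h hpA hab).h u)⁻¹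
          = (r1 h hpA hab).h t * ((r1 h hpA hab).h u * (r1 h hpA hab).x ((t * u) ^ 2)⁻¹ *
            ((r1 h hpA hab).h u)⁻¹) * ((r1 h hpA hab).h t)⁻¹ := by group
      rw [this, (r1 h hpA hab).h_conj_x u hu, (r1 h hpA hab).h_conj_x t ht,
        (r1 h hpA hab).h_conj_x (t * u) htu]
      congr 1
      ring)
  have ky := comm_of_conj_eq ((r1 h hpA hab).h t * (r1 h hpA hab).h u) ((r1 h hpA hab).h (t * u))
    ((r1 h hpA hab).y ((t * u) ^ 2)) (by
      have : (r1 h hpA hab).h t * (r1 h hpA hab).h u * (r1 h hpA hab).y ((t * u) ^ 2) *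
          ((r1 h hpA hab).h t * (r1 h hpA hab).h u)⁻¹
          = (r1 h hpA hab).h t * ((r1 h hpA hab).h u * (r1 h hpA hab).y ((t * u) ^ 2) *
            ((r1 h hpA hab).h u)⁻¹) * ((r1 h hpA hab).h t)⁻¹ := by group
      rw [this, (r1 h hpA hab).h_conj_y u hu, (r1 h hpA hab).h_conj_y t ht,
        (r1 h hpA hab).h_conj_y (t * u) htu]
      congr 1
      field_simp)
  rw [(r1 h hpA hab).h_conj_x (t * u) htu, mul_inv_cancel₀ htu2] at kx
  rw [(r1 h hpA hab).h_conj_y (t * u) htu, inv_mul_cancel₀ htu2] at ky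
  apply central_of_comm
  · have := congrArg (fun g : ↥(YY a b) => (g : X)) kx
    simp only [Subgroup.coe_mul, r1_x, opg_one] at this
    exact this
  · have := congrArg (fun g : ↥(YY a b) => (g : X)) ky
    simp only [Subgroup.coe_mul, r1_y, opg_one] at this
    exact this

/-- the pair of `SL₂`-type relations in `⟨a, b⟩` -/
def pr (h : Hyp A B) (hpA : ∀ x ∈ A, x ^ p = 1) {a b : X} (hab : Rel A B a b) :
    Pair (ZMod p) ↥(YY a b) where
  x := (r1 h hpA hab).x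
  y := (r1 h hpA hab).y
  x_add := (r1 h hpA hab).x_add
  y_add := (r1 h hpA hab).y_add
  conj t u ht := by
    have := (r1 h hpA hab).wx t ht u
    rw [mul_inv_eq_iff_eq_mul] at this
    rw [inv_pow]
    exact this
  h_mul t u ht hu := (r1 h hpA hab).h_mul (r1_hcen h hpA hab) t u ht hu

end

end Cfsg.Agent.Lib.Helper5.SRO
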