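import Cfsg.Agent.H2.SpecialRankOne
import Mathlib

/-!
# Special rank one groups: the subgroup `⟨a, b(a)⟩` in prime characteristic (helper5)

One-parameter groups `t ↦ a ^ t.val` over `ZMod p`, and the relation `b(a^t) = b(a)^(1/t)`.
-/

set_option autoImplicit false

namespace Cfsg.Agent.Lib.Helper5.SRO

open Cfsg Cfsg.Agent.H2.SRO

section opg

variable {X : Type*} [Group X] {p : ℕ} [Fact p.Prime]

/-- the one-parameter group `t ↦ a ^ t.val` -/
def opg (a : X) (t : ZMod p) : X := a ^ t.val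

theorem opg_add (a : X) (ha : a ^ p = 1) (t u : ZMod p) : opg a t * opg a u = opg a (t + u) := by
  unfold opg
  rw [← pow_add, ZMod.val_add, ← pow_eq_pow_mod _ ha]

theorem opg_zero (a : X) : opg a (0 : ZMod p) = 1 := by
  unfold opg
  rw [ZMod.val_zero, pow_zero]

theorem opg_one (a : X) : opg a (1 : ZMod p) = a := by
  unfold opg
  have : Fact (1 < p) := ⟨(Fact.out : p.Prime).one_lt⟩
  rw [ZMod.val_one, pow_one]

theorem opg_neg (a : X) (ha : a ^ p = 1) (t : ZMod p) : opg a (-t) = (opg a t)⁻¹ := by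
  rw [eq_inv_iff_mul_eq_one, opg_add a ha, neg_add_cancel, opg_zero]

theorem opg_pow (a : X) (ha : a ^ p = 1) (t : ZMod p) (m : ℕ) :
    opg a t ^ m = opg a (t * (m : ZMod p)) := by
  induction m with
  | zero => rw [pow_zero, Nat.cast_zero, mul_zero, opg_zero]
  | succ m ih => rw [pow_succ, ih, opg_add a ha, Nat.cast_succ, mul_add, mul_one]

/-- `opg a u` is a power of `opg a t` when `t ≠ 0` -/
theorem opg_eq_pow (a : X) (ha : a ^ p = 1) (t u : ZMod p) (ht : t ≠ 0) :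
    opg a u = opg a t ^ (u / t).val := by
  rw [opg_pow a ha, ZMod.natCast_zmod_val, mul_div_cancel₀ _ ht]

theorem opg_ne_one (a : X) (ha : a ^ p = 1) (ha1 : a ≠ 1) (t : ZMod p) (ht : t ≠ 0) :
    opg a t ≠ 1 := by
  intro h
  unfold opg at h
  have ho := orderOf_eq_prime ha ha1
  have hd := orderOf_dvd_of_pow_eq_one h
  rw [ho] at hd
  have hlt := ZMod.val_lt t
  have h0 : t.val ≠ 0 := fun h0 => ht ((ZMod.val_eq_zero t).1 h0)
  exact h0 (Nat.eq_zero_of_dvd_of_lt hd hlt)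

theorem opg_injective (a : X) (ha : a ^ p = 1) (ha1 : a ≠ 1) (t u : ZMod p)
    (h : opg a t = opg a u) : t = u := by
  by_contra hne
  have h1 : opg a (t - u) = 1 := by
    rw [sub_eq_add_neg, ← opg_add a ha, opg_neg a ha, h, mul_inv_cancel]
  exact opg_ne_one a ha ha1 (t - u) (sub_ne_zero.2 hne) h1

theorem opg_mem (a : X) (S : Subgroup X) (haS : a ∈ S) (t : ZMod p) : opg a t ∈ S :=
  S.pow_mem haS _

end opg

section rel

variable {X : Type*} [Group X] {p : ℕ} [Fact p.Prime] {A B : Subgroup X}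

/-- `B` has exponent `p` as well -/
theorem exp_right (h : Hyp A B) (hpA : ∀ x ∈ A, x ^ p = 1) (y : X) (hy : y ∈ B) : y ^ p = 1 := by
  by_cases hy1 : y = 1
  · rw [hy1, one_pow]
  · obtain ⟨x, hxy⟩ := exists_left h hy hy1
    exact torsion_left h.swap hxy.swap (hpA x hxy.1)

/-- `b(a^t) = b(a)^(1/t)` -/
theorem rel_opg (h : Hyp A B) (hpA : ∀ x ∈ A, x ^ p = 1) {a b : X} (hab : Rel A B a b)
    (t : ZMod p) (ht : t ≠ 0) : Rel A B (opg a t) (opg b t⁻¹) := by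
  have ha := hpA a hab.1
  have hb := exp_right h hpA b hab.2.2.1
  have hm : opg a t ∈ A := opg_mem a A hab.1 t
  have h1 : opg a t ≠ 1 := opg_ne_one a ha hab.2.1 t ht
  obtain ⟨β, hβ⟩ := exists_right h hm h1
  have hβp := exp_right h hpA β hβ.2.2.1
  have key : β ^ t.val = b := main t.val h.swap b a β hab.swap hβ.swap
  have e : opg b t⁻¹ = β := by
    unfold opg
    rw [← key, ← pow_mul, pow_eq_pow_mod _ hβp, ← ZMod.val_mul, mul_inv_cancel₀ ht]
    have : Fact (1 < p) := ⟨(Fact.out : p.Prime).one_lt⟩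
    rw [ZMod.val_one, pow_one]
  rw [e]
  exact hβ

/-- the consequences of the special relation for `n = a b⁻¹ a` -/
theorem n_conj_left (h : Hyp A B) {a b : X} (hab : Rel A B a b) :
    (a * b⁻¹ * a) * a * (a * b⁻¹ * a)⁻¹ = b⁻¹ := by
  have S := h.special a hab.1 hab.2.1 b hab.2.2.1 hab.2.2.2.1 hab.2.2.2.2
  calc (a * b⁻¹ * a) * a * (a * b⁻¹ * a)⁻¹ = a * (b⁻¹ * a * b) * a⁻¹ := by group
    _ = a * (a⁻¹ * b⁻¹ * a) * a⁻¹ := by rw [S]
    _ = b⁻¹ := by group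

theorem n_alt (h : Hyp A B) {a b : X} (hab : Rel A B a b) :
    a * b⁻¹ * a = b⁻¹ * a * b⁻¹ := by
  have S := h.special a hab.1 hab.2.1 b hab.2.2.1 hab.2.2.2.1 hab.2.2.2.2
  calc a * b⁻¹ * a = a * (b⁻¹ * a * b) * b⁻¹ := by group
    _ = a * (a⁻¹ * b⁻¹ * a) * b⁻¹ := by rw [S]
    _ = b⁻¹ * a * b⁻¹ := by group

theorem n_conj_right (h : Hyp A B) {a b : X} (hab : Rel A B a b) :
    (a * b⁻¹ * a) * b * (a * b⁻¹ * a)⁻¹ = a⁻¹ := by
  have e := n_alt h hab
  calc (a * b⁻¹ * a) * b * (a * b⁻¹ * a)⁻¹ = (b⁻¹ * a * b⁻¹) * b * (a * b⁻¹ * a)⁻¹ := by rw [e]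
    _ = a⁻¹ := by group

end rel

end Cfsg.Agent.Lib.Helper5.SRO
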