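import Cfsg.Agent.Lib.Helper5.SRO.SubPair
import Mathlib

/-!
# Special rank one groups of characteristic two or three: the commutator subgroup is quasisimple
(helper5)
-/

set_option autoImplicit false

namespace Cfsg.Agent.Lib.Helper5.SRO

open Cfsg Cfsg.Agent.H2.SRO Cfsg.Agent.H2.RankOne

section

variable {X : Type*} [Group X] {A B : Subgroup X}

/-- `A` has exponent two or three -/
def Exp23 (A : Subgroup X) : Prop := (∀ x ∈ A, x * x = 1) ∨ (∀ x ∈ A, x * x * x = 1)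

theorem Exp23.mono {A A' : Subgroup X} (he : Exp23 A) (hle : A' ≤ A) : Exp23 A' := by
  rcases he with he | he
  · exact Or.inl fun x hx => he x (hle hx)
  · exact Or.inr fun x hx => he x (hle hx)

/-- if the Hua elements act trivially on `A` modulo `C`, then `A ≤ C` -/
theorem le_of_hua (h : Hyp A B) (he : Exp23 A) (hcard : 3 < ENat.card ↥A) (C : Subgroup X)
    (hC : ∀ u βu z βz v, Rel A B u βu → Rel A B z βz → v ∈ A →
      (nn u βu * (nn z βz)⁻¹) * v * (nn u βu * (nn z βz)⁻¹)⁻¹ * v⁻¹ ∈ C) : A ≤ C := by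
  intro v hv
  by_cases hv1 : v = 1
  · rw [hv1]; exact C.one_mem
  have : ∃ u w : X, u ∈ A ∧ u ≠ 1 ∧ w ∈ A ∧ w ≠ 1 ∧ u * w ≠ 1 ∧ u * w * w = v := by
    rcases he with he | he
    · exact cover_two he hcard hv hv1
    · exact cover_three h he hcard hv hv1
  obtain ⟨u, w, hu, hu1, hw, hw1, huw, e⟩ := this
  rw [← e]
  exact hua_mod h C hC hu hu1 hw hw1 huw

theorem card_le_of_le {S T : Subgroup X} (hST : S ≤ T) : ENat.card ↥S ≤ ENat.card ↥T := by
  have : Set.encard (S : Set X) ≤ Set.encard (T : Set X) := Set.encard_le_encard hST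
  exact this

theorem exists_ne_one_of_card (S : Subgroup X) (hS : 3 < ENat.card ↥S) : ∃ a ∈ S, a ≠ 1 := by
  by_contra hcon
  push Not at hcon
  have hsub : (S : Set X) ⊆ {1} := fun x hx => hcon x hx
  have h1 : Set.encard (S : Set X) ≤ Set.encard ({1} : Set X) := Set.encard_le_encard hsub
  rw [Set.encard_singleton] at h1
  have h2 : ENat.card ↥S ≤ 1 := h1
  have : (3 : ℕ∞) < 1 := lt_of_lt_of_le hS h2
  exact absurd this (by decide)

/-- Step 1: `⁅A, H⁆ = A` has more than three elements -/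
theorem card_comm_diag (h : Hyp A B) (he : Exp23 A) (hcard : 3 < ENat.card ↥A) :
    3 < ENat.card ↥(⁅A, rankOneDiagonal A B⁆ : Subgroup X) :=
  lt_of_lt_of_le hcard (card_le_of_le (le_of_hua h he hcard _ (hC_diag h)))

/-- Step 2: `X = X' A` -/
theorem comm_sup (hr : IsRankOneGroup X A B) : commutator X ⊔ A = ⊤ := by
  rcases normal_dichotomy hr (commutator X) inferInstance with h1 | h1
  · exact h1
  · exfalso
    apply center_ne_top hr
    rw [← upperCentralSeries_two hr, eq_top_iff]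
    intro x _
    rw [show (2 : ℕ) = 1 + 1 from rfl, Subgroup.mem_upperCentralSeries_succ_iff]
    intro y
    rw [Subgroup.upperCentralSeries_one]
    apply h1
    rw [commutator_def]
    exact Subgroup.commutator_mem_commutator (Subgroup.mem_top x) (Subgroup.mem_top y)

theorem nn_mem {S : Subgroup X} {a b : X} (ha : a ∈ S) (hb : b ∈ S) : nn a b ∈ S :=
  S.mul_mem (S.mul_mem ha (S.inv_mem hb)) ha

/-- a central element of `A` is trivial -/
theorem central_inter (h : Hyp A B) {x : X} (hx : x ∈ A) (hz : x ∈ Subgroup.center X) : x = 1 := by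
  apply norm_trivial h.swap hx
  ext y
  rw [mem_cj]
  rw [Subgroup.mem_center_iff] at hz
  rw [← hz y, mul_inv_cancel_right]

/-- the elements `m ∈ N` with `⁅m, v⁆ ∈ K` -/
def commSub (N K : Subgroup X) (hKN : ∀ n ∈ N, ∀ k ∈ K, n * k * n⁻¹ ∈ K) (v : X) : Subgroup X where
  carrier := {m | m ∈ N ∧ m * v * m⁻¹ * v⁻¹ ∈ K}
  one_mem' := by
    refine ⟨N.one_mem, ?_⟩
    have : (1 : X) * v * 1⁻¹ * v⁻¹ = 1 := by group
    rw [this]
    exact K.one_mem
  mul_mem' := by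
    rintro m₁ m₂ ⟨h1, h1'⟩ ⟨h2, h2'⟩
    refine ⟨N.mul_mem h1 h2, ?_⟩
    have e : m₁ * m₂ * v * (m₁ * m₂)⁻¹ * v⁻¹
        = (m₁ * (m₂ * v * m₂⁻¹ * v⁻¹) * m₁⁻¹) * (m₁ * v * m₁⁻¹ * v⁻¹) := by group
    rw [e]
    exact K.mul_mem (hKN m₁ h1 _ h2') h1'
  inv_mem' := by
    rintro m ⟨h1, h1'⟩
    refine ⟨N.inv_mem h1, ?_⟩
    have e : m⁻¹ * v * m⁻¹⁻¹ * v⁻¹ = m⁻¹ * (m * v * m⁻¹ * v⁻¹)⁻¹ * m⁻¹⁻¹ := by group
    rw [e]
    exact hKN m⁻¹ (N.inv_mem h1) _ (K.inv_mem h1')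

theorem mem_commSub {N K : Subgroup X} {hKN : ∀ n ∈ N, ∀ k ∈ K, n * k * n⁻¹ ∈ K} {v m : X} :
    m ∈ commSub N K hKN v ↔ m ∈ N ∧ m * v * m⁻¹ * v⁻¹ ∈ K := Iff.rfl

/-- the case where `K` fixes the point `A` -/
theorem fix_case (h : Hyp A B) (hr : IsRankOneGroup X A B) (N K : Subgroup X) [hN : N.Normal]
    (hNA : N ⊔ A = ⊤) (hKN : ∀ n ∈ N, ∀ k ∈ K, n * k * n⁻¹ ∈ K)
    (hfix : ∀ k ∈ K, k ∈ Subgroup.normalizer (A : Set X)) : K ≤ Subgroup.center X := by
  have hL : Subgroup.normalClosure (K : Set X) ≤ Subgroup.normalizer (A : Set X) := by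
    rw [Subgroup.normalClosure, Subgroup.closure_le]
    intro y hy
    rw [Group.mem_conjugatesOfSet_iff] at hy
    obtain ⟨k, hk, hky⟩ := hy
    rw [isConj_iff] at hky
    obtain ⟨x, rfl⟩ := hky
    have hx : x ∈ ((A ⊔ N : Subgroup X) : Set X) := by rw [sup_comm, hNA]; trivial
    rw [Subgroup.mul_normal] at hx
    obtain ⟨a, ha, n, hn, rfl⟩ := hx
    have e : a * n * k * (a * n)⁻¹ = a * (n * k * n⁻¹) * a⁻¹ := by group
    rw [SetLike.mem_coe, e]
    exact Subgroup.mul_mem _ (Subgroup.mul_mem _ (Subgroup.le_normalizer ha)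
      (hfix _ (hKN n hn k hk))) (Subgroup.inv_mem _ (Subgroup.le_normalizer ha))
  rcases normal_dichotomy hr _ (Subgroup.normalClosure_normal (s := (K : Set X))) with h1 | h1
  · exfalso
    have htop : (⊤ : Subgroup X) ≤ Subgroup.normalizer (A : Set X) := by
      rw [← h1]; exact sup_le hL Subgroup.le_normalizer
    obtain ⟨x, _, hx⟩ := exists_conjBy_eq_right h.pair
    apply h.pair.ne
    rw [hx]
    exact (conjBy_eq_self_iff.2 (htop (Subgroup.mem_top x))).symm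
  · exact (Subgroup.le_normalClosure).trans h1

/-- the case where `K` contains an element moving `A` to `B` -/
theorem le_of_moves (h : Hyp A B) (hr : IsRankOneGroup X A B) (he : Exp23 A)
    (N : Subgroup X) [hN : N.Normal] (hNA : N ⊔ A = ⊤)
    (hNmin : ∀ L : Subgroup X, L.Normal → L ⊔ A = ⊤ → N ≤ L)
    (hcard : 3 < ENat.card ↥(A ⊓ N)) (K : Subgroup X)
    (hKN : ∀ n ∈ N, ∀ k ∈ K, n * k * n⁻¹ ∈ K) {k : X} (hk : k ∈ K)
    (hkA : ∀ a ∈ A, k * a * k⁻¹ ∈ B) : N ≤ K := by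
  obtain ⟨a₀, ha₀, ha₀1⟩ := exists_ne_one_of_card _ hcard
  have h₀ : Hyp (A ⊓ N) (B ⊓ N) := hyp_sub h N ha₀ ha₀1
  have he₀ : Exp23 (A ⊓ N) := he.mono inf_le_left
  -- commutators of `B₀` with `A₀` lie in `K`
  have hd : ∀ b ∈ B ⊓ N, ∀ a ∈ A ⊓ N, b * a * b⁻¹ * a⁻¹ ∈ K := by
    intro b hb a ha
    have hβ : k * a * k⁻¹ ∈ B := hkA a ha.1
    have hκ : a * (k * a * k⁻¹)⁻¹ ∈ K := by
      have : a * (k * a * k⁻¹)⁻¹ = (a * k * a⁻¹) * k⁻¹ := by group
      rw [this]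
      exact K.mul_mem (hKN a ha.2 k hk) (K.inv_mem hk)
    have hc := h.commB b hb.1 _ hβ
    have hc' : (k * a * k⁻¹)⁻¹ * b⁻¹ * (k * a * k⁻¹) = b⁻¹ := by
      calc (k * a * k⁻¹)⁻¹ * b⁻¹ * (k * a * k⁻¹)
          = (k * a * k⁻¹)⁻¹ * b⁻¹ * ((k * a * k⁻¹) * b) * b⁻¹ := by group
        _ = (k * a * k⁻¹)⁻¹ * b⁻¹ * (b * (k * a * k⁻¹)) * b⁻¹ := by rw [hc]
        _ = b⁻¹ := by group
    have e : b * a * b⁻¹ * a⁻¹
        = (b * (a * (k * a * k⁻¹)⁻¹) * b⁻¹) * (a * (k * a * k⁻¹)⁻¹)⁻¹ := by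
      calc b * a * b⁻¹ * a⁻¹ = b * a * ((k * a * k⁻¹)⁻¹ * b⁻¹ * (k * a * k⁻¹)) * a⁻¹ := by rw [hc']
        _ = _ := by group
    rw [e]
    exact K.mul_mem (hKN b hb.2 _ hκ) (K.inv_mem hκ)
  have hA₀ : ∀ v ∈ A ⊓ N, ∀ m ∈ A ⊓ N, m ∈ commSub N K hKN v := by
    intro v hv m hm
    rw [mem_commSub]
    refine ⟨hm.2, ?_⟩
    have := h.commA m hm.1 v hv.1
    have e : m * v * m⁻¹ * v⁻¹ = 1 := by rw [this]; group
    rw [e]; exact K.one_mem
  have hB₀ : ∀ v ∈ A ⊓ N, ∀ m ∈ B ⊓ N, m ∈ commSub N K hKN v := fun v hv m hm =>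
    mem_commSub.2 ⟨hm.2, hd m hm v hv⟩
  have hC : ∀ u βu z βz v, Rel (A ⊓ N) (B ⊓ N) u βu → Rel (A ⊓ N) (B ⊓ N) z βz → v ∈ A ⊓ N →
      (nn u βu * (nn z βz)⁻¹) * v * (nn u βu * (nn z βz)⁻¹)⁻¹ * v⁻¹ ∈ K := by
    intro u βu z βz v hu hz hv
    have h1 : nn u βu ∈ commSub N K hKN v :=
      Subgroup.mul_mem _ (Subgroup.mul_mem _ (hA₀ v hv u hu.1)
        (Subgroup.inv_mem _ (hB₀ v hv βu hu.2.2.1))) (hA₀ v hv u hu.1)
    have h2 : nn z βz ∈ commSub N K hKN v :=
      Subgroup.mul_mem _ (Subgroup.mul_mem _ (hA₀ v hv z hz.1)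
        (Subgroup.inv_mem _ (hB₀ v hv βz hz.2.2.1))) (hA₀ v hv z hz.1)
    exact (mem_commSub.1 (Subgroup.mul_mem _ h1 (Subgroup.inv_mem _ h2))).2
  have hle : A ⊓ N ≤ K := le_of_hua h₀ he₀ hcard K hC
  have hL : Subgroup.normalClosure ((A ⊓ N : Subgroup X) : Set X) ≤ K := by
    rw [Subgroup.normalClosure, Subgroup.closure_le]
    intro y hy
    rw [Group.mem_conjugatesOfSet_iff] at hy
    obtain ⟨a, ha, hay⟩ := hy
    rw [isConj_iff] at hay
    obtain ⟨x, rfl⟩ := hay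
    have hx : x ∈ ((N ⊔ A : Subgroup X) : Set X) := by rw [hNA]; trivial
    rw [Subgroup.normal_mul] at hx
    obtain ⟨n, hn, a', ha', rfl⟩ := hx
    have hc := h.commA a' ha' a ha.1
    have e : n * a' * a * (n * a')⁻¹ = n * a * n⁻¹ := by
      calc n * a' * a * (n * a')⁻¹ = n * (a' * a) * a'⁻¹ * n⁻¹ := by group
        _ = n * (a * a') * a'⁻¹ * n⁻¹ := by rw [hc]
        _ = n * a * n⁻¹ := by group
    rw [SetLike.mem_coe, e]
    exact hKN n hn a (hle ha)
  rcases normal_dichotomy hr _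
    (Subgroup.normalClosure_normal (s := ((A ⊓ N : Subgroup X) : Set X))) with h1 | h1
  · exact (hNmin _ Subgroup.normalClosure_normal h1).trans hL
  · exfalso
    exact ha₀1 (central_inter h ha₀.1 (h1 (Subgroup.subset_normalClosure ha₀)))

/-- Step 5: a subgroup of `N` normalised by `N` is central or all of `N` -/
theorem sub_dichotomy (h : Hyp A B) (hr : IsRankOneGroup X A B) (he : Exp23 A)
    (N : Subgroup X) [hN : N.Normal] (hNA : N ⊔ A = ⊤)
    (hNmin : ∀ L : Subgroup X, L.Normal → L ⊔ A = ⊤ → N ≤ L)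
    (hcard : 3 < ENat.card ↥(A ⊓ N)) (K : Subgroup X) (hK : K ≤ N)
    (hKN : ∀ n ∈ N, ∀ k ∈ K, n * k * n⁻¹ ∈ K) : K ≤ Subgroup.center X ∨ K = N := by
  by_cases hfix : ∀ k ∈ K, k ∈ Subgroup.normalizer (A : Set X)
  · left
    exact fix_case h hr N K hNA hKN hfix
  · right
    push Not at hfix
    obtain ⟨k, hk, hkn⟩ := hfix
    have hmem : conjBy A k ∈ unipotentSubgroups A B := ⟨k, by rw [hr.1]; trivial, rfl⟩
    rcases unipotentSubgroups_eq h.pair hmem with h1 | ⟨a, ha, h1⟩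
    · exact absurd (conjBy_eq_self_iff.1 h1) hkn
    · apply le_antisymm hK
      have hKN' : ∀ n ∈ N, ∀ x ∈ cj K a, n * x * n⁻¹ ∈ cj K a := by
        intro n hn x hx
        rw [mem_cj] at hx ⊢
        have e : a * (n * x * n⁻¹) * a⁻¹ = (a * n * a⁻¹) * (a * x * a⁻¹) * (a * n * a⁻¹)⁻¹ := by group
        rw [e]
        exact hKN _ (hN.conj_mem n hn a) _ hx
      have hk' : a⁻¹ * k * a ∈ cj K a := by
        rw [mem_cj]
        have e : a * (a⁻¹ * k * a) * a⁻¹ = k := by group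
        rw [e]; exact hk
      have hkA' : ∀ y ∈ A, (a⁻¹ * k * a) * y * (a⁻¹ * k * a)⁻¹ ∈ B := by
        intro y hy
        have hy' : k * (a * y * a⁻¹) * k⁻¹ ∈ conjBy A k :=
          ⟨a * y * a⁻¹, A.mul_mem (A.mul_mem ha hy) (A.inv_mem ha), rfl⟩
        rw [h1, mem_conjBy] at hy'
        have e : (a⁻¹ * k * a) * y * (a⁻¹ * k * a)⁻¹ = a⁻¹ * (k * (a * y * a⁻¹) * k⁻¹) * a := by
          group
        rw [e]; exact hy'
      have key := le_of_moves h hr he N hNA hNmin hcard (cj K a) hKN' hk' hkA'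
      intro n hn
      have h2 : a⁻¹ * n * a ∈ N := by
        have := hN.conj_mem n hn a⁻¹
        rwa [inv_inv] at this
      have h3 := key h2
      rw [mem_cj] at h3
      have e : a * (a⁻¹ * n * a) * a⁻¹ = n := by group
      rwa [e] at h3

/-- Step 4: `N` is perfect -/
theorem comm_perfect (h : Hyp A B) (hr : IsRankOneGroup X A B) (he : Exp23 A)
    (hcard : 3 < ENat.card ↥(A ⊓ commutator X)) :
    ⁅commutator X, commutator X⁆ = commutator X := by
  apply le_antisymm (Subgroup.commutator_le_right _ _)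
  rcases normal_dichotomy hr ⁅commutator X, commutator X⁆ inferInstance with h1 | h1
  · exact commutator_le_of_sup h _ h1
  · exfalso
    obtain ⟨a₀, ha₀, ha₀1⟩ := exists_ne_one_of_card _ hcard
    have h₀ : Hyp (A ⊓ commutator X) (B ⊓ commutator X) := hyp_sub h (commutator X) ha₀ ha₀1
    have he₀ : Exp23 (A ⊓ commutator X) := he.mono inf_le_left
    have hC : ∀ u βu z βz v, Rel (A ⊓ commutator X) (B ⊓ commutator X) u βu →
        Rel (A ⊓ commutator X) (B ⊓ commutator X) z βz → v ∈ A ⊓ commutator X →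
        (nn u βu * (nn z βz)⁻¹) * v * (nn u βu * (nn z βz)⁻¹)⁻¹ * v⁻¹ ∈ (⊥ : Subgroup X) := by
      intro u βu z βz v hu hz hv
      rw [Subgroup.mem_bot]
      have hg : nn u βu * (nn z βz)⁻¹ ∈ commutator X :=
        Subgroup.mul_mem _ (nn_mem hu.1.2 hu.2.2.1.2) (Subgroup.inv_mem _ (nn_mem hz.1.2 hz.2.2.1.2))
      have hcen : (nn u βu * (nn z βz)⁻¹) * v * (nn u βu * (nn z βz)⁻¹)⁻¹ * v⁻¹
          ∈ Subgroup.center X := by
        apply h1
        rw [← commutatorElement_def]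
        exact Subgroup.commutator_mem_commutator hg hv.2
      have hA : (nn u βu * (nn z βz)⁻¹) * v * (nn u βu * (nn z βz)⁻¹)⁻¹ * v⁻¹ ∈ A := by
        have h2 : v ∈ cj (A ⊓ commutator X) (nn u βu * (nn z βz)⁻¹) := by
          rw [hua_cj_left h₀ hz hu]; exact hv
        rw [mem_cj] at h2
        exact A.mul_mem h2.1 (A.inv_mem hv.1)
      exact central_inter h hA hcen
    have hle := le_of_hua h₀ he₀ hcard ⊥ hC
    exact ha₀1 ((Subgroup.mem_bot).1 (hle ha₀))

/-- a perfect nontrivial group all of whose normal subgroups are central or everything is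
quasisimple -/
theorem quasisimple_of_dichotomy {G : Type*} [Group G] [Nontrivial G] (hperf : Group.IsPerfect G)
    (hdich : ∀ M : Subgroup G, M.Normal → M ≤ Subgroup.center G ∨ M = ⊤) : IsQuasisimple G := by
  refine ⟨hperf, ?_⟩
  have hnt : Nontrivial (G ⧸ Subgroup.center G) := by
    rw [← not_subsingleton_iff_nontrivial, QuotientGroup.subsingleton_iff]
    intro htop
    have hc : IsMulCommutative G :=
      ⟨⟨fun x y => Subgroup.mem_center_iff.1 (htop ▸ Subgroup.mem_top y) x⟩⟩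
    exact Group.IsPerfect.not_isMulCommutative G hc
  refine { exists_pair_ne := hnt.exists_pair_ne, eq_bot_or_eq_top_of_normal := ?_ }
  intro Mbar hMbar
  have hMn : (Mbar.comap (QuotientGroup.mk' (Subgroup.center G))).Normal := hMbar.comap _
  have hmap : (Mbar.comap (QuotientGroup.mk' (Subgroup.center G))).map
      (QuotientGroup.mk' (Subgroup.center G)) = Mbar :=
    Subgroup.map_comap_eq_self_of_surjective (QuotientGroup.mk'_surjective _) _
  rcases hdich _ hMn with h1 | h1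
  · left
    rw [← hmap, Subgroup.map_eq_bot_iff, QuotientGroup.ker_mk']
    exact h1
  · right
    rw [← hmap, h1, ← MonoidHom.range_eq_map, MonoidHom.range_eq_top]
    exact QuotientGroup.mk'_surjective _

/-- Step 6: `X'` is quasisimple -/
theorem comm_quasisimple (h : Hyp A B) (hr : IsRankOneGroup X A B) (he : Exp23 A)
    (hcard : 3 < ENat.card ↥(A ⊓ commutator X)) : IsQuasisimple ↥(commutator X) := by
  obtain ⟨a₀, ha₀, ha₀1⟩ := exists_ne_one_of_card _ hcard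
  have hnt : Nontrivial ↥(commutator X) :=
    ⟨⟨⟨a₀, ha₀.2⟩, 1, fun e => ha₀1 (congrArg Subtype.val e)⟩⟩
  have hperf : Group.IsPerfect ↥(commutator X) :=
    Subgroup.isPerfect_iff.2 (comm_perfect h hr he hcard)
  apply quasisimple_of_dichotomy hperf
  intro M hM
  have hK : M.map (commutator X).subtype ≤ commutator X := Subgroup.map_subtype_le M
  have hKN : ∀ n ∈ commutator X, ∀ k ∈ M.map (commutator X).subtype,
      n * k * n⁻¹ ∈ M.map (commutator X).subtype := by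
    rintro n hn _ ⟨m, hm, rfl⟩
    exact ⟨⟨n, hn⟩ * m * ⟨n, hn⟩⁻¹, hM.conj_mem m hm ⟨n, hn⟩, rfl⟩
  rcases sub_dichotomy h hr he (commutator X) (comm_sup hr)
    (fun L hL hLA => @commutator_le_of_sup _ _ _ _ h L hL hLA) hcard _ hK hKN with h1 | h1
  · left
    intro m hm
    rw [Subgroup.mem_center_iff]
    intro g
    apply Subtype.ext
    have h2 : (m : X) ∈ Subgroup.center X := h1 ⟨m, hm, rfl⟩
    rw [Subgroup.mem_center_iff] at h2
    exact h2 g
  · right
    rw [eq_top_iff]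
    intro y _
    have h2 : (y : X) ∈ M.map (commutator X).subtype := by rw [h1]; exact y.2
    obtain ⟨m, hm, hmy⟩ := h2
    have h3 : m = y := Subtype.ext hmy
    rw [← h3]; exact hm

/-- the structure theorem in characteristic two or three -/
theorem quasi_small_char (h : Hyp A B) (hr : IsRankOneGroup X A B) (he : Exp23 A)
    (hcard : 3 < ENat.card ↥A) :
    commutator X ⊔ A = ⊤ ∧ IsQuasisimple ↥(commutator X) ∧
      3 < ENat.card ↥(⁅A, rankOneDiagonal A B⁆ : Subgroup X) := by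
  have h1 := card_comm_diag h he hcard
  have h2 : 3 < ENat.card ↥(A ⊓ commutator X) :=
    lt_of_lt_of_le h1 (card_le_of_le (le_inf (comm_diag_le A B) (comm_diag_le_commutator A B)))
  exact ⟨comm_sup hr, comm_quasisimple h hr he h2, h1⟩

end

end Cfsg.Agent.Lib.Helper5.SRO
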