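import Cfsg.Agent.Lib.Helper5.SRO.Iso
import Cfsg.Agent.Lib.Helper5.SRO.Quasi
import Mathlib

/-!
# Special rank one groups with `|A| ≤ 3` (helper5)
-/

set_option autoImplicit false

namespace Cfsg.Agent.Lib.Helper5.SRO

open Cfsg Cfsg.Agent.H2.SRO Matrix

section

variable {X : Type*} [Group X] {A B : Subgroup X}

/-- the centre of `SL₂(2)` is trivial -/
theorem center_sl2_two : Subgroup.center (SpecialLinearGroup (Fin 2) (ZMod 2)) = ⊥ := by
  rw [eq_bot_iff]
  intro z hz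
  rw [Matrix.SpecialLinearGroup.mem_center_iff] at hz
  obtain ⟨r, hr, hrz⟩ := hz
  rw [Subgroup.mem_bot]
  rw [Fintype.card_fin] at hr
  have hall : ∀ r : ZMod 2, r ^ 2 = 1 → r = 1 := by decide
  have hr1 : r = 1 := hall r hr
  apply Subtype.ext
  rw [← hrz, hr1]
  simp

/-- `PSL₂(2) ≅ SL₂(2)` -/
noncomputable def psl2Two :
    ProjectiveSpecialLinearGroup (Fin 2) (ZMod 2) ≃* SpecialLinearGroup (Fin 2) (ZMod 2) :=
  (QuotientGroup.quotientMulEquivOfEq center_sl2_two).trans QuotientGroup.quotientBot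

/-- the small case: `X ≅ (P)SL₂(p)` with `p = |A| ∈ {2, 3}` -/
theorem small_case (h : Hyp A B) (hr : IsRankOneGroup X A B) (hcard : ENat.card ↥A ≤ 3) :
    Nonempty (X ≃* SpecialLinearGroup (Fin 2) (ZMod 2)) ∨
    Nonempty (X ≃* SpecialLinearGroup (Fin 2) (ZMod 3)) ∨
    Nonempty (X ≃* ProjectiveSpecialLinearGroup (Fin 2) (ZMod 3)) := by
  have hfin : Finite ↥A := ENat.card_lt_top.1 (lt_of_le_of_lt hcard (by decide))
  obtain ⟨a, ha, ha1⟩ := Cfsg.Agent.H2.RankOne.exists_nonidentity_left h.pair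
  obtain ⟨b, hab⟩ := exists_right h ha ha1
  have hc : Nat.card ↥A ≤ 3 := by
    have := Fintype.ofFinite ↥A
    rw [ENat.card_eq_coe_fintype_card] at hcard
    rw [Nat.card_eq_fintype_card]
    exact_mod_cast hcard
  have hc0 : Nat.card ↥A ≠ 0 := Nat.card_pos.ne'
  have hc1 : Nat.card ↥A ≠ 1 := by
    intro e
    rw [Nat.card_eq_one_iff_unique] at e
    have := e.1
    exact ha1 (congrArg Subtype.val (Subsingleton.elim (⟨a, ha⟩ : ↥A) 1))
  have key : ∀ p : ℕ, [Fact p.Prime] → Nat.card ↥A = p →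
      Nonempty (X ≃* SpecialLinearGroup (Fin 2) (ZMod p)) ∨
      Nonempty (X ≃* ProjectiveSpecialLinearGroup (Fin 2) (ZMod p)) := by
    intro p _ hp
    have hpA : ∀ x ∈ A, x ^ p = 1 := by
      intro x hx
      have h1 : (⟨x, hx⟩ : ↥A) ^ Nat.card ↥A = 1 := pow_card_eq_one'
      rw [hp] at h1
      exact congrArg Subtype.val h1
    have hz : Subgroup.zpowers (⟨a, ha⟩ : ↥A) = ⊤ :=
      zpowers_eq_top_of_prime_card hp (fun e => ha1 (congrArg Subtype.val e))
    have hA_le : A ≤ YY a b := by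
      intro x hx
      have h1 : (⟨x, hx⟩ : ↥A) ∈ Subgroup.zpowers (⟨a, ha⟩ : ↥A) := by rw [hz]; trivial
      obtain ⟨n, hn⟩ := Subgroup.mem_zpowers_iff.1 h1
      have h2 : x = a ^ n := by
        have := congrArg Subtype.val hn
        simpa using this.symm
      rw [h2]
      exact Subgroup.zpow_mem _ (a_mem a b) n
    have hB_le : B ≤ YY a b := by
      intro β hβ
      have hm : β ∈ cj A (nn a b)⁻¹ := by rw [cj_left_nn_inv h hab]; exact hβ
      rw [mem_cj] at hm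
      have hn : nn a b ∈ YY a b := nn_mem (a_mem a b) (b_mem a b)
      have h3 := Subgroup.mul_mem _ (Subgroup.mul_mem _ hn (hA_le hm)) (Subgroup.inv_mem _ hn)
      have e : nn a b * ((nn a b)⁻¹ * β * (nn a b)⁻¹⁻¹) * (nn a b)⁻¹ = β := by group
      rwa [e] at h3
    have htop : YY a b = ⊤ := by
      rw [eq_top_iff, ← hr.1]; exact sup_le hA_le hB_le
    have e0 : X ≃* ↥(YY a b) := Subgroup.topEquiv.symm.trans (MulEquiv.subgroupCongr htop.symm)
    rcases iso_main h hpA hab with h1 | h1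
    · obtain ⟨e⟩ := h1
      exact Or.inl ⟨e0.trans e⟩
    · obtain ⟨e⟩ := h1
      exact Or.inr ⟨e0.trans e⟩
  have h23 : Nat.card ↥A = 2 ∨ Nat.card ↥A = 3 := by omega
  rcases h23 with h2 | h3
  · left
    have : Fact (Nat.Prime 2) := ⟨Nat.prime_two⟩
    rcases key 2 h2 with h1 | h1
    · exact h1
    · obtain ⟨e⟩ := h1
      exact ⟨e.trans psl2Two⟩
  · right
    have : Fact (Nat.Prime 3) := ⟨Nat.prime_three⟩
    exact key 3 h3

end

end Cfsg.Agent.Lib.Helper5.SRO
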