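import Cfsg.Agent.Lib.Helper5.SRO.Diag
import Mathlib

/-!
# Special rank one groups: the pair `(A ∩ N, B ∩ N)` for a normal subgroup `N` (helper5)
-/

set_option autoImplicit false

namespace Cfsg.Agent.Lib.Helper5.SRO

open Cfsg Cfsg.Agent.H2.SRO

section

variable {X : Type*} [Group X] {A B : Subgroup X}

theorem cj_inf_normal (S N : Subgroup X) [hN : N.Normal] (g : X) : cj (S ⊓ N) g = cj S g ⊓ N := by
  ext x
  rw [mem_cj, Subgroup.mem_inf, Subgroup.mem_inf, mem_cj]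
  constructor
  · rintro ⟨h1, h2⟩
    refine ⟨h1, ?_⟩
    have := hN.conj_mem _ h2 g⁻¹
    have e : g⁻¹ * (g * x * g⁻¹) * g⁻¹⁻¹ = x := by group
    rwa [e] at this
  · rintro ⟨h1, h2⟩
    exact ⟨h1, hN.conj_mem _ h2 g⟩

/-- `b(a) ∈ N` when `a ∈ N` -/
theorem rel_mem_right (h : Hyp A B) (N : Subgroup X) [hN : N.Normal] {a b : X} (hab : Rel A B a b)
    (ha : a ∈ N) : b ∈ N := by
  have := hN.conj_mem _ ha (nn a b)
  rw [nn_conj_left h hab] at this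
  have h2 := N.inv_mem this
  rwa [inv_inv] at h2

theorem rel_mem_left (h : Hyp A B) (N : Subgroup X) [hN : N.Normal] {a b : X} (hab : Rel A B a b)
    (hb : b ∈ N) : a ∈ N := by
  have := hN.conj_mem _ hb (nn a b)
  rw [nn_conj_right h hab] at this
  have h2 := N.inv_mem this
  rwa [inv_inv] at h2

/-- the relation restricts to `(A ∩ N, B ∩ N)` -/
theorem rel_sub (h : Hyp A B) (N : Subgroup X) [hN : N.Normal] {a b : X} (hab : Rel A B a b)
    (ha : a ∈ N) : Rel (A ⊓ N) (B ⊓ N) a b := by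
  refine ⟨⟨hab.1, ha⟩, hab.2.1, ⟨hab.2.2.1, rel_mem_right h N hab ha⟩, hab.2.2.2.1, ?_⟩
  rw [cj_inf_normal, cj_inf_normal, hab.2.2.2.2]

/-- an element of `B ∩ N` normalising `A ∩ N ≠ 1` is trivial -/
theorem norm_trivial_sub (h : Hyp A B) (N : Subgroup X) {a₀ : X} (ha₀ : a₀ ∈ A ⊓ N)
    (ha₀1 : a₀ ≠ 1) {β : X} (hβ : β ∈ B) (hn : cj (A ⊓ N) β = A ⊓ N) : β = 1 := by
  by_contra hβ1
  obtain ⟨a', ha'⟩ := exists_left h hβ hβ1
  have hx : β⁻¹ * a₀ * β ∈ cj (A ⊓ N) β := by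
    rw [mem_cj]
    have : β * (β⁻¹ * a₀ * β) * β⁻¹ = a₀ := by group
    rw [this]
    exact ha₀
  have hxA : β⁻¹ * a₀ * β ∈ A := by
    rw [hn] at hx
    exact hx.1
  have hx2 : β⁻¹ * a₀ * β ∈ cj A β := by
    rw [mem_cj]
    have : β * (β⁻¹ * a₀ * β) * β⁻¹ = a₀ := by group
    rw [this]
    exact ha₀.1
  rw [ha'.2.2.2.2, mem_cj] at hx2
  have hc := h.commA a' ha'.1 _ hxA
  have hxB : β⁻¹ * a₀ * β ∈ B := by
    have : a' * (β⁻¹ * a₀ * β) * a'⁻¹ = β⁻¹ * a₀ * β := by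
      rw [hc]; group
    rwa [this] at hx2
  have := inter_trivial h hxA hxB
  apply ha₀1
  calc a₀ = β * (β⁻¹ * a₀ * β) * β⁻¹ := by group
    _ = 1 := by rw [this]; group

theorem nilpotent_of_comm (S : Subgroup X) (hS : ∀ x ∈ S, ∀ y ∈ S, x * y = y * x) :
    Group.IsNilpotent ↥S := by
  let _ : CommGroup ↥S :=
    { (inferInstance : Group ↥S) with
      mul_comm := fun x y => Subtype.ext (hS x x.2 y y.2) }
  exact CommGroup.isNilpotent

/-- the pair `(A ∩ N, B ∩ N)` is again special with abelian unipotent subgroups -/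
theorem hyp_sub (h : Hyp A B) (N : Subgroup X) [hN : N.Normal] {a₀ : X} (ha₀ : a₀ ∈ A ⊓ N)
    (ha₀1 : a₀ ≠ 1) : Hyp (A ⊓ N) (B ⊓ N) := by
  have commA : ∀ x ∈ A ⊓ N, ∀ y ∈ A ⊓ N, x * y = y * x :=
    fun x hx y hy => h.commA x hx.1 y hy.1
  have commB : ∀ x ∈ B ⊓ N, ∀ y ∈ B ⊓ N, x * y = y * x :=
    fun x hx y hy => h.commB x hx.1 y hy.1
  refine ⟨⟨?_, nilpotent_of_comm _ commA, nilpotent_of_comm _ commB, ?_, ?_⟩, commA, commB, ?_⟩
  · intro e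
    have : a₀ ∈ B ⊓ N := by rw [← e]; exact ha₀
    exact ha₀1 (inter_trivial h ha₀.1 this.1)
  · intro a ha ha1
    obtain ⟨b, hab⟩ := exists_right h ha.1 ha1
    have r := rel_sub h N hab ha.2
    exact ⟨b, r.2.2.1, r.2.2.2.1, r.2.2.2.2⟩
  · intro b hb hb1
    obtain ⟨a, hab⟩ := exists_left h hb.1 hb1
    have r := rel_sub h N hab (rel_mem_left h N hab hb.2)
    exact ⟨a, r.1, r.2.1, r.2.2.2.2.symm⟩
  · intro a ha ha1 b hb hb1 hrel
    obtain ⟨b', hab'⟩ := exists_right h ha.1 ha1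
    have r := rel_sub h N hab' ha.2
    have e : cj (A ⊓ N) (b * b'⁻¹) = A ⊓ N := by
      rw [← cj_cj, hrel, ← r.2.2.2.2, cj_cj, mul_inv_cancel, cj_one]
    have := norm_trivial_sub h N ha₀ ha₀1 (B.mul_mem hb.1 (B.inv_mem hab'.2.2.1)) e
    have hbb : b = b' := mul_inv_eq_one.1 this
    rw [hbb]
    exact h.special a hab'.1 hab'.2.1 b' hab'.2.2.1 hab'.2.2.2.1 hab'.2.2.2.2

end

end Cfsg.Agent.Lib.Helper5.SRO
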